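import Mathlib

/-!
# The covering `∏ᵢ ∏ⱼ (Aᵢ)_{a_{ji}}` of `∏ᵢ Aᵢ` is faithfully flat

For finitely many families `a j : Π i, A i` generating the unit ideal in each `A i`, the ring
`Q = Π (i, j), (A i)_{a j i}` is faithfully flat over `P = Π i, A i` and
`Q ⊗[P] Q = Π (i, j, k), (A i)_{a j i * a k i}`. With fpqc descent for morphisms this gives
`X(Π A i) = Π X(A i)` for quasi-compact quasi-separated schemes `X`.
-/

universe u

open TensorProduct

namespace AlgzPi

set_option linter.unusedSectionVars false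

variable {ι J : Type u} [Fintype J] {A : ι → Type u} [∀ i, CommRing (A i)]
  (a : J → Π i, A i)

abbrev Q := Π p : ι × J, Localization.Away (a p.2 p.1)

abbrev C := Π q : ι × (J × J), Localization.Away (a q.2.1 q.1 * a q.2.2 q.1)

noncomputable instance algQ : Algebra (Π i, A i) (Q a) :=
  (RingHom.pi fun p : ι × J => (algebraMap (A p.1) (Localization.Away (a p.2 p.1))).comp
    (Pi.evalRingHom A p.1)).toAlgebra

noncomputable instance algC : Algebra (Π i, A i) (C a) :=
  (RingHom.pi fun q : ι × (J × J) =>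
    (algebraMap (A q.1) (Localization.Away (a q.2.1 q.1 * a q.2.2 q.1))).comp
      (Pi.evalRingHom A q.1)).toAlgebra

lemma smul_apply (w : Π i, A i) (x : Q a) (p : ι × J) :
    (w • x) p = algebraMap (A p.1) _ (w p.1) * x p := by
  rw [Algebra.smul_def]; rfl

lemma smul_apply_C (w : Π i, A i) (x : C a) (q : ι × (J × J)) :
    (w • x) q = algebraMap (A q.1) _ (w q.1) * x q := by
  rw [Algebra.smul_def]; rfl

noncomputable abbrev inv' (p : ι × J) : Localization.Away (a p.2 p.1) :=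
  IsLocalization.Away.invSelf (a p.2 p.1)

lemma mul_inv' (p : ι × J) :
    algebraMap (A p.1) (Localization.Away (a p.2 p.1)) (a p.2 p.1) * inv' a p = 1 :=
  IsLocalization.Away.mul_invSelf _

open Classical in
/-- `a j ^ (-N)` in the `j`-th factor, `0` elsewhere -/
noncomputable def e (j : J) (N : ι → ℕ) : Q a :=
  fun p => if p.2 = j then inv' a p ^ N p.1 else 0

lemma sum_smul_e_apply (w : J → Π i, A i) (N : ι → ℕ) (p : ι × J) :
    (∑ j, w j • e a j N) p = algebraMap (A p.1) _ (w p.2 p.1) * inv' a p ^ N p.1 := by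
  classical
  rw [Finset.sum_apply]
  rw [Finset.sum_eq_single p.2]
  · simp [smul_apply, e]
  · intro b _ hb; simp [smul_apply, e, Ne.symm hb]
  · simp

lemma algebraMap_pow_mul_inv' (p : ι × J) (k n : ℕ) :
    algebraMap (A p.1) (Localization.Away (a p.2 p.1)) (a p.2 p.1 ^ k) * inv' a p ^ (n + k)
      = inv' a p ^ n := by
  rw [map_pow, pow_add, mul_left_comm, ← mul_pow, mul_inv', one_pow, mul_one]

lemma e_shift (j : J) (N M : ι → ℕ) :
    e a j N = (fun i => a j i ^ M i) • e a j (N + M) := by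
  funext p
  rw [smul_apply]
  simp only [e, Pi.add_apply]
  split_ifs with h
  · subst h; exact (algebraMap_pow_mul_inv' a p _ _).symm
  · simp

lemma exists_repr (x : Q a) :
    ∃ N : ι → ℕ, ∀ M : ι → ℕ, ∃ w : J → Π i, A i, x = ∑ j, w j • e a j (N + M) := by
  classical
  choose n w hw using fun p : ι × J => IsLocalization.Away.surj (a p.2 p.1) (x p)
  refine ⟨fun i => Finset.univ.sup fun j => n (i, j), fun M => ⟨fun j i =>
    w (i, j) * a j i ^ ((Finset.univ.sup fun j => n (i, j)) - n (i, j) + M i), ?_⟩⟩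
  funext p
  obtain ⟨i, j⟩ := p
  have hle : n (i, j) ≤ Finset.univ.sup fun j => n (i, j) :=
    Finset.le_sup (f := fun j => n (i, j)) (Finset.mem_univ j)
  rw [sum_smul_e_apply]
  dsimp only [Pi.add_apply]
  have : ((Finset.univ.sup fun j => n (i, j)) + M i) =
      n (i, j) + ((Finset.univ.sup fun j => n (i, j)) - n (i, j) + M i) := by omega
  conv_rhs => rw [map_mul, mul_assoc, this]
  rw [algebraMap_pow_mul_inv' a (i, j)]
  have hw' := hw (i, j)
  dsimp only at hw'
  rw [← hw', mul_assoc, ← mul_pow, mul_inv' a (i, j), one_pow, mul_one]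

lemma exists_repr_finset {σ : Type*} [Fintype σ] (x : σ → Q a) :
    ∃ (N : ι → ℕ) (w : σ → J → Π i, A i), ∀ l, x l = ∑ j, w l j • e a j N := by
  classical
  choose N hN using fun l => exists_repr a (x l)
  have hle : ∀ l, N l + (fun i => (Finset.univ.sup fun l => N l i) - N l i) =
      fun i => Finset.univ.sup fun l => N l i := by
    intro l; funext i
    have : N l i ≤ Finset.univ.sup fun l => N l i :=
      Finset.le_sup (f := fun l => N l i) (Finset.mem_univ l)
    simp only [Pi.add_apply]; omega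
  choose w hw using fun l => hN l (fun i => (Finset.univ.sup fun l => N l i) - N l i)
  exact ⟨fun i => Finset.univ.sup fun l => N l i, w, fun l => by rw [hw l, hle l]⟩

lemma exists_pow_mul_eq_zero {p : ι × J} {z : A p.1} {n : ℕ}
    (h : algebraMap (A p.1) (Localization.Away (a p.2 p.1)) z * inv' a p ^ n = 0) :
    ∃ m : ℕ, a p.2 p.1 ^ m * z = 0 := by
  have hu : IsUnit (inv' a p ^ n) :=
    (IsUnit.of_mul_eq_one _ (by rw [mul_comm]; exact mul_inv' a p)).pow _
  rw [hu.mul_left_eq_zero, IsLocalization.map_eq_zero_iff (Submonoid.powers (a p.2 p.1))] at h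
  obtain ⟨⟨_, m, rfl⟩, hm⟩ := h
  exact ⟨m, hm⟩

instance flat_Q : Module.Flat (Π i, A i) (Q a) := by
  classical
  rw [Module.Flat.iff_forall_isTrivialRelation]
  intro l f x hfx
  obtain ⟨N, w, hw⟩ := exists_repr_finset a x
  have hz : ∀ p : ι × J, ∃ m : ℕ, a p.2 p.1 ^ m * (∑ l', f l' p.1 * w l' p.2 p.1) = 0 := by
    intro p
    refine exists_pow_mul_eq_zero a (n := N p.1) ?_
    have : (∑ l', f l' • x l') p = 0 := by rw [hfx]; rfl
    rw [Finset.sum_apply] at this
    rw [map_sum, Finset.sum_mul]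
    refine Eq.trans (Finset.sum_congr rfl fun l' _ => ?_) this
    rw [smul_apply, hw l', sum_smul_e_apply, map_mul, mul_assoc]
  choose m hm using hz
  let M : ι → ℕ := fun i => Finset.univ.sup fun j => m (i, j)
  let σ := Fintype.equivFin J
  refine ⟨Fintype.card J, fun l' k => w l' (σ.symm k) * fun i => a (σ.symm k) i ^ M i,
    fun k => e a (σ.symm k) (N + M), fun l' => ?_, fun k => ?_⟩
  · rw [hw l', ← σ.symm.sum_comp]
    refine Finset.sum_congr rfl fun k _ => ?_
    rw [mul_smul, ← e_shift]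
  · funext i
    rw [Finset.sum_apply]
    simp only [Pi.mul_apply, Pi.zero_apply]
    have hle : m (i, σ.symm k) ≤ M i :=
      Finset.le_sup (f := fun j => m (i, j)) (Finset.mem_univ _)
    have := hm (i, σ.symm k)
    dsimp only at this
    simp only [← mul_assoc, ← Finset.sum_mul]
    rw [← Nat.sub_add_cancel hle, pow_add, mul_left_comm, ← mul_comm (a (σ.symm k) i ^ m _), this,
      mul_zero]

lemma span_pi_eq_top (ha : ∀ i, Ideal.span (Set.range fun j => a j i) = ⊤) (n : J → ι → ℕ) :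
    Ideal.span (Set.range fun j => fun i => a j i ^ n j i) = (⊤ : Ideal (Π i, A i)) := by
  refine AlgebraicGeometry.Ideal.span_eq_top_of_span_image_evalRingHom _ (Set.finite_range _)
    fun i => ?_
  rw [← Set.range_comp]
  by_contra h
  obtain ⟨𝔪, h𝔪, hle⟩ := Ideal.exists_le_maximal _ h
  refine h𝔪.ne_top (top_le_iff.mp (ha i ▸ Ideal.span_le.mpr ?_))
  rintro _ ⟨j, rfl⟩
  exact h𝔪.isPrime.mem_of_pow_mem (n j i) (hle (Ideal.subset_span ⟨j, rfl⟩))

lemma faithfullyFlat_Q (ha : ∀ i, Ideal.span (Set.range fun j => a j i) = ⊤) :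
    Module.FaithfullyFlat (Π i, A i) (Q a) := by
  classical
  refine { (flat_Q a) with submodule_ne_top := fun 𝔪 h𝔪 htop => ?_ }
  have key : ∀ x ∈ 𝔪 • (⊤ : Submodule (Π i, A i) (Q a)), ∃ N : ι → ℕ, ∀ M : ι → ℕ,
      ∃ w : J → Π i, A i, (∀ j, w j ∈ 𝔪) ∧ x = ∑ j, w j • e a j (N + M) := by
    intro x hx
    refine Submodule.smul_induction_on hx ?_ ?_
    · intro r hr y _
      obtain ⟨N, hN⟩ := exists_repr a y
      refine ⟨N, fun M => ?_⟩
      obtain ⟨w, hw⟩ := hN M
      exact ⟨fun j => r * w j, fun j => Ideal.mul_mem_right _ _ hr,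
        by rw [hw, Finset.smul_sum]; simp only [mul_smul]⟩
    · rintro y z ⟨N₁, h₁⟩ ⟨N₂, h₂⟩
      refine ⟨N₁ + N₂, fun M => ?_⟩
      obtain ⟨w₁, hw₁, e₁⟩ := h₁ (N₂ + M)
      obtain ⟨w₂, hw₂, e₂⟩ := h₂ (N₁ + M)
      refine ⟨w₁ + w₂, fun j => Ideal.add_mem _ (hw₁ j) (hw₂ j), ?_⟩
      rw [e₁, e₂, ← add_assoc, ← add_assoc N₂, add_comm N₂ N₁]
      simp [add_smul, Finset.sum_add_distrib]
  obtain ⟨N, hN⟩ := key 1 (by rw [htop]; exact Submodule.mem_top)
  obtain ⟨w, hw, e₁⟩ := hN 0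
  rw [add_zero] at e₁
  have hz : ∀ p : ι × J, ∃ m : ℕ, a p.2 p.1 ^ m * (w p.2 p.1 - a p.2 p.1 ^ N p.1) = 0 := by
    intro p
    refine exists_pow_mul_eq_zero a (n := N p.1) ?_
    rw [map_sub, sub_mul, ← sum_smul_e_apply a w N p, ← e₁, map_pow, ← mul_pow, mul_inv', one_pow]
    exact sub_self _
  choose m hm using hz
  refine h𝔪.ne_top (top_le_iff.mp
    (span_pi_eq_top a ha (fun j i => m (i, j) + N i) ▸ Ideal.span_le.mpr ?_))
  rintro _ ⟨j, rfl⟩
  have : (fun i => a j i ^ (m (i, j) + N i)) = (fun i => a j i ^ m (i, j)) * w j := by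
    funext i
    have := hm (i, j)
    dsimp only at this
    rw [mul_sub, sub_eq_zero] at this
    rw [Pi.mul_apply, pow_add, this]
  show (fun i => a j i ^ (m (i, j) + N i)) ∈ 𝔪
  rw [this]
  exact Ideal.mul_mem_left _ _ (hw j)

noncomputable def pr₁ : Q a →ₐ[Π i, A i] C a where
  toRingHom := RingHom.pi fun q : ι × (J × J) =>
    (IsLocalization.Away.awayToAwayRight (a q.2.1 q.1) (a q.2.2 q.1)).comp
      (Pi.evalRingHom (fun p : ι × J => Localization.Away (a p.2 p.1)) (q.1, q.2.1))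
  commutes' w := funext fun q =>
    IsLocalization.Away.awayToAwayRight_eq (a q.2.1 q.1) (a q.2.2 q.1) (w q.1)

noncomputable def pr₂ : Q a →ₐ[Π i, A i] C a where
  toRingHom := RingHom.pi fun q : ι × (J × J) =>
    (IsLocalization.Away.awayToAwayLeft (a q.2.2 q.1) (a q.2.1 q.1)).comp
      (Pi.evalRingHom (fun p : ι × J => Localization.Away (a p.2 p.1)) (q.1, q.2.2))
  commutes' w := funext fun q =>
    IsLocalization.Away.awayToAwayLeft_eq (a q.2.2 q.1) (a q.2.1 q.1) (w q.1)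

noncomputable def toC : Q a ⊗[Π i, A i] Q a →ₐ[Π i, A i] C a :=
  Algebra.TensorProduct.lift (pr₁ a) (pr₂ a) fun _ _ => Commute.all _ _

noncomputable def u (q : ι × (J × J)) : Localization.Away (a q.2.1 q.1 * a q.2.2 q.1) :=
  IsLocalization.Away.awayToAwayRight (a q.2.1 q.1) (a q.2.2 q.1) (inv' a (q.1, q.2.1)) *
    IsLocalization.Away.awayToAwayLeft (a q.2.2 q.1) (a q.2.1 q.1) (inv' a (q.1, q.2.2))

lemma mul_u (q : ι × (J × J)) :
    algebraMap (A q.1) _ (a q.2.1 q.1 * a q.2.2 q.1) * u a q = 1 := by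
  rw [map_mul, u, mul_mul_mul_comm]
  conv_lhs =>
    congr
    · rw [← IsLocalization.Away.awayToAwayRight_eq
          (S := Localization.Away (a q.2.1 q.1)) (a q.2.1 q.1) (a q.2.2 q.1), ← map_mul,
        mul_inv' a (q.1, q.2.1), map_one]
    · rw [← IsLocalization.Away.awayToAwayLeft_eq
          (S := Localization.Away (a q.2.2 q.1)) (a q.2.2 q.1) (a q.2.1 q.1), ← map_mul,
        mul_inv' a (q.1, q.2.2), map_one]
  rw [mul_one]

open Classical in
lemma toC_e (j k : J) (N : ι → ℕ) (q : ι × (J × J)) :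
    toC a (e a j N ⊗ₜ e a k N) q = if q.2 = (j, k) then u a q ^ N q.1 else 0 := by
  obtain ⟨i, j', k'⟩ := q
  rw [toC, Algebra.TensorProduct.lift_tmul]
  show (IsLocalization.Away.awayToAwayRight (a j' i) (a k' i) :
      Localization.Away (a j' i) →+* Localization.Away (a j' i * a k' i)) (e a j N (i, j')) *
    (IsLocalization.Away.awayToAwayLeft (a k' i) (a j' i) :
      Localization.Away (a k' i) →+* Localization.Away (a j' i * a k' i)) (e a k N (i, k')) = _
  simp only [e, Prod.mk.injEq]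
  by_cases h1 : j' = j <;> by_cases h2 : k' = k <;> simp [h1, h2, u, mul_pow, map_pow]

lemma toC_sum_apply (z : J × J → Π i, A i) (N : ι → ℕ) (q : ι × (J × J)) :
    toC a (∑ jk, z jk • (e a jk.1 N ⊗ₜ[Π i, A i] e a jk.2 N)) q
      = algebraMap (A q.1) _ (z q.2 q.1) * u a q ^ N q.1 := by
  classical
  rw [map_sum, Finset.sum_apply, Finset.sum_eq_single q.2]
  · rw [map_smul, smul_apply_C, toC_e, if_pos rfl]
  · intro b _ hb
    rw [map_smul, smul_apply_C, toC_e, if_neg (fun h => hb h.symm), mul_zero]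
  · simp

lemma exists_repr_tensor (t : Q a ⊗[Π i, A i] Q a) :
    ∃ N : ι → ℕ, ∀ M : ι → ℕ, ∃ z : J × J → Π i, A i,
      t = ∑ jk, z jk • (e a jk.1 (N + M) ⊗ₜ e a jk.2 (N + M)) := by
  classical
  induction t with
  | zero => exact ⟨0, fun M => ⟨0, by simp⟩⟩
  | tmul x y =>
    obtain ⟨N₁, h₁⟩ := exists_repr a x
    obtain ⟨N₂, h₂⟩ := exists_repr a y
    refine ⟨N₁ + N₂, fun M => ?_⟩
    obtain ⟨v, hv⟩ := h₁ (N₂ + M)
    obtain ⟨w, hw⟩ := h₂ (N₁ + M)
    refine ⟨fun jk => v jk.1 * w jk.2, ?_⟩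
    rw [← add_assoc] at hv
    rw [← add_assoc, add_comm N₂] at hw
    rw [hv, hw, TensorProduct.sum_tmul, Fintype.sum_prod_type]
    refine Finset.sum_congr rfl fun j _ => ?_
    rw [TensorProduct.tmul_sum]
    refine Finset.sum_congr rfl fun k _ => ?_
    rw [TensorProduct.smul_tmul_smul]
  | add s t hs ht =>
    obtain ⟨N₁, h₁⟩ := hs
    obtain ⟨N₂, h₂⟩ := ht
    refine ⟨N₁ + N₂, fun M => ?_⟩
    obtain ⟨z₁, e₁⟩ := h₁ (N₂ + M)
    obtain ⟨z₂, e₂⟩ := h₂ (N₁ + M)
    rw [← add_assoc] at e₁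
    rw [← add_assoc, add_comm N₂] at e₂
    exact ⟨z₁ + z₂, by rw [e₁, e₂]; simp [add_smul, Finset.sum_add_distrib]⟩

lemma toC_bijective : Function.Bijective (toC a) := by
  classical
  constructor
  · rw [injective_iff_map_eq_zero]
    intro t ht
    obtain ⟨N, hN⟩ := exists_repr_tensor a t
    obtain ⟨z, hz⟩ := hN 0
    rw [add_zero] at hz
    have hm : ∀ q : ι × (J × J), ∃ m : ℕ,
        (a q.2.1 q.1 * a q.2.2 q.1) ^ m * z q.2 q.1 = 0 := by
      intro q
      have h : algebraMap (A q.1) _ (z q.2 q.1) * u a q ^ N q.1 = 0 := by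
        rw [← toC_sum_apply a z N q, ← hz, ht]; rfl
      have hu : IsUnit (u a q ^ N q.1) :=
        (IsUnit.of_mul_eq_one _ ((mul_comm _ _).trans (mul_u a q))).pow _
      rw [hu.mul_left_eq_zero, IsLocalization.map_eq_zero_iff
        (Submonoid.powers (a q.2.1 q.1 * a q.2.2 q.1))] at h
      obtain ⟨⟨_, m, rfl⟩, hm⟩ := h
      exact ⟨m, hm⟩
    choose m hm using hm
    rw [hz]
    refine Finset.sum_eq_zero fun jk _ => ?_
    set M : ι → ℕ := fun i => m (i, jk)
    rw [e_shift a jk.1 N M, e_shift a jk.2 N M, TensorProduct.smul_tmul_smul, smul_smul]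
    convert zero_smul (Π i, A i) _
    funext i
    have := hm (i, jk)
    dsimp only at this
    simp only [Pi.mul_apply, Pi.zero_apply, M, ← mul_pow]
    rw [mul_comm, this]
  · intro c
    choose n w hw using fun q : ι × (J × J) =>
      IsLocalization.Away.surj (a q.2.1 q.1 * a q.2.2 q.1) (c q)
    let N : ι → ℕ := fun i => Finset.univ.sup fun jk => n (i, jk)
    refine ⟨∑ jk, (fun i => w (i, jk) * (a jk.1 i * a jk.2 i) ^ (N i - n (i, jk))) •
      (e a jk.1 N ⊗ₜ e a jk.2 N), funext fun q => ?_⟩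
    rw [toC_sum_apply]
    obtain ⟨i, jk⟩ := q
    have hle : n (i, jk) ≤ N i := Finset.le_sup (f := fun jk => n (i, jk)) (Finset.mem_univ _)
    have hu := mul_u a (i, jk)
    have hw' := hw (i, jk)
    dsimp only at hw' hu ⊢
    rw [map_mul, ← hw', map_pow, mul_assoc]
    calc c (i, jk) * algebraMap _ _ (a jk.1 i * a jk.2 i) ^ n (i, jk) *
          (algebraMap _ _ (a jk.1 i * a jk.2 i) ^ (N i - n (i, jk)) * u a (i, jk) ^ N i)
        = c (i, jk) * (algebraMap _ _ (a jk.1 i * a jk.2 i) * u a (i, jk)) ^ N i := by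
          rw [mul_pow]; conv_rhs => rw [← pow_mul_pow_sub (algebraMap (A i)
            (Localization.Away (a jk.1 i * a jk.2 i)) (a jk.1 i * a jk.2 i)) hle]
          ring
      _ = c (i, jk) := by rw [hu, one_pow, mul_one]

end AlgzPi
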